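import Mathlib
import Cfsg.Prelude.Def_ClassicalGeometry
import Cfsg.Agent.ClassicalGeometry.SympAutTwo
import Cfsg.Agent.ClassicalGeometry.SympAutExists
set_option linter.all false

/-!
# S5764, `PSp_4(2^f)` with graph automorphisms (task SP4G): interface

`G = Sp_4(F)`, `F` finite of characteristic two.  `Five4 S`: five conjugates of `S ≤ Aut(G)` by inner automorphisms meet
trivially.
-/

set_option autoImplicit false

namespace Cfsg.Agent.H319.FC

open Cfsg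
open Cfsg.Agent.ClassicalGeometry.SympBasic Cfsg.Agent.ClassicalGeometry.SympAutSemi

universe u

variable {F : Type u} [Field F]

/-- `Sp_4(F)` -/
abbrev Sp4 (F : Type u) [Field F] := Matrix.symplecticGroup (Fin 2) F

/-- the natural module -/
abbrev V4 (F : Type u) := Fin 2 ⊕ Fin 2 → F

/-- `S ∩ S^{x₁} ∩ ⋯ ∩ S^{x₄} = 1` for some inner `xᵢ` -/
def Five4 {G : Type u} [Group G] (S : Subgroup (MulAut G)) : Prop :=
  ∃ x : Fin 4 → G, ∀ α ∈ S, (∀ i, MulAut.conj (x i) * α * (MulAut.conj (x i))⁻¹ ∈ S) → α = 1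

/-- **F1.** Tori of `SL₂(F)`, `F` finite of characteristic 2, `|F| ≥ 4`. -/
def StF1 (F : Type u) [Field F] : Prop :=
  ∀ z : Matrix.SpecialLinearGroup (Fin 2) F, z ≠ 1 → Odd (orderOf z) →
    ∃ c u : Matrix.SpecialLinearGroup (Fin 2) F,
      Subgroup.centralizer {z} = Subgroup.zpowers c ∧ Odd (orderOf c) ∧ Nat.card F - 1 ≤ orderOf c ∧
      (∀ y ∈ Subgroup.zpowers c, y ≠ 1 → Subgroup.centralizer {y} = Subgroup.zpowers c) ∧
      (∀ n, (∀ y ∈ Subgroup.zpowers c, n * y * n⁻¹ ∈ Subgroup.zpowers c) → n ^ 2 ∈ Subgroup.zpowers c) ∧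
      (¬ ∀ y ∈ Subgroup.zpowers c, u * y * u⁻¹ ∈ Subgroup.zpowers c) ∧
      (8 ≤ Nat.card F → ∀ φ : F ≃+* F, φ (Matrix.trace (c : Matrix (Fin 2) (Fin 2) F)) =
        Matrix.trace (c : Matrix (Fin 2) (Fin 2) F) → ∀ a, φ a = a)

/-- `z` acts irreducibly -/
def Irr4 (z : Sp4 F) : Prop :=
  ∀ W : Submodule F (V4 F), (∀ v ∈ W, rho 2 F z v ∈ W) → W = ⊥ ∨ W = ⊤

/-- **F2.** The torus of order `q² + 1`. -/
def StF2 (F : Type u) [Field F] : Prop :=
  ∀ z : Sp4 F, z ≠ 1 → Odd (orderOf z) → Irr4 z →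
    ∃ c : Sp4 F, Subgroup.centralizer {z} = Subgroup.zpowers c ∧ Odd (orderOf c) ∧
      (∀ y ∈ Subgroup.zpowers c, y ≠ 1 → Subgroup.centralizer {y} = Subgroup.zpowers c) ∧
      (∀ n, (∀ y ∈ Subgroup.zpowers c, n * y * n⁻¹ ∈ Subgroup.zpowers c) → n ^ 4 ∈ Subgroup.zpowers c) ∧
      (∀ (g : semiSim 2 F) (φ : F ≃+* F) (l : F), l ≠ 0 → IsSemi g.1 φ l → conjHom 2 F g c = c → ∀ a, φ a = a)

/-- **F3.** A reducible element of odd prime order without fixed vectors and not of type `z² + s z + 1 = 0` leaves a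
non-degenerate plane invariant. -/
def StF3 (F : Type u) [Field F] : Prop :=
  ∀ (r : ℕ) (z : Sp4 F), r.Prime → r ≠ 2 → z ^ r = 1 →
    (∀ v, rho 2 F z v = v → v = 0) →
    (¬ ∃ s : F, ∀ v, rho 2 F z (rho 2 F z v) + s • rho 2 F z v + v = 0) →
    ¬ Irr4 z →
    ∃ x y : V4 F, sympForm 2 F x y = 1 ∧ rho 2 F z x ∈ Submodule.span F {x, y} ∧
      rho 2 F z y ∈ Submodule.span F {x, y}

/-- **F4.** If `z² + s z + 1 = 0` then the image of `z` under the graph automorphism has a fixed vector. -/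
def StF4 (F : Type u) [Field F] [Finite F] [CharP F 2] : Prop :=
  ∀ (z : Sp4 F) (s : F), (∀ v, rho 2 F z (rho 2 F z v) + s • rho 2 F z v + v = 0) →
    ∃ v, v ≠ 0 ∧ rho 2 F (Cfsg.Agent.ClassicalGeometry.Sp4Graph.graphEquiv F z) v = v

end Cfsg.Agent.H319.FC
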