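import Mathlib
import Cfsg.Agent.H198.FC.Defs
import Cfsg.Agent.H319.FC.Defs
import Cfsg.Agent.ClassicalGeometry.SympAutTwo
import Cfsg.Agent.ClassicalGeometry.SympAutExists
import Cfsg.Agent.S0270
set_option linter.all false

-- part: H319/FC/Base
section
/-!
# S5764, SP4G: abstract part

The group `G = Sp_4(F)`, `F` finite of characteristic two; the isomorphism with `PSp_4(F)`; the index of the semilinear
automorphisms; reduction to three inner conjugates; `S ∩ Inn = 1`; existence of an invariant elementary abelian subgroup.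
-/

set_option autoImplicit false

namespace Cfsg.Agent.H319.FC

open Cfsg
open Cfsg.Agent.ClassicalGeometry.SympBasic Cfsg.Agent.ClassicalGeometry.SympAutSemi
open Cfsg.Agent.ClassicalGeometry.Sp4Graph Cfsg.Agent.ClassicalGeometry.Sp4GraphAut
open scoped commutatorElement

universe u

/-! ### Abstract group theory -/

section Abstract

variable {G : Type u} [Group G]

/-- conjugation of an inner automorphism -/
theorem aut_conj (α : MulAut G) (x : G) : α * MulAut.conj x * α⁻¹ = MulAut.conj (α x) := by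
  ext y
  change α (x * α⁻¹ y * x⁻¹) = α x * y * (α x)⁻¹
  rw [map_mul, map_mul, map_inv]
  congr 2
  exact α.apply_symm_apply y

theorem conj_comm (α : MulAut G) (x : G) :
    MulAut.conj x * α * (MulAut.conj x)⁻¹ = MulAut.conj (x * (α x)⁻¹) * α := by
  have h := aut_conj α x
  have h2 : α * (MulAut.conj x)⁻¹ = (MulAut.conj (α x))⁻¹ * α := by
    rw [← h]; group
  rw [mul_assoc, h2, ← mul_assoc, map_mul, map_inv]

theorem conj_mem_iff {S : Subgroup (MulAut G)} {α : MulAut G} (hα : α ∈ S) (x : G) :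
    MulAut.conj x * α * (MulAut.conj x)⁻¹ ∈ S ↔ MulAut.conj (x * (α x)⁻¹) ∈ S := by
  rw [conj_comm]
  exact Subgroup.mul_mem_cancel_right S hα

theorem conj_eq_one (hZ : Subgroup.center G = ⊥) {x : G} (h : MulAut.conj x = 1) : x = 1 := by
  have h1 : x ∈ Subgroup.center G := by
    rw [Subgroup.mem_center_iff]
    intro g
    have h2 : MulAut.conj x g = g := by rw [h]; rfl
    rw [MulAut.conj_apply] at h2
    calc g * x = (x * g * x⁻¹) * x := by rw [h2]
      _ = x * g := by group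
  rwa [hZ, Subgroup.mem_bot] at h1

/-- If `S` contains no inner automorphism: common elements of `S` and its conjugate fix `x`. -/
theorem fix_of_trivial {S : Subgroup (MulAut G)}
    (h0 : ∀ x : G, MulAut.conj x ∈ S → x = 1) {α : MulAut G} (hα : α ∈ S) {x : G}
    (h : MulAut.conj x * α * (MulAut.conj x)⁻¹ ∈ S) : α x = x := by
  have h1 := h0 _ ((conj_mem_iff hα x).1 h)
  exact (mul_inv_eq_one.1 h1).symm

/-- A solvable `S` cannot contain all conjugates of a nontrivial element. -/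
theorem exists_conj_notMem [IsSimpleGroup G] (hns : ¬ Group.IsSolvable G) (hZ : Subgroup.center G = ⊥)
    {S : Subgroup (MulAut G)} (hS : Group.IsSolvable S) {α : MulAut G} (hα : α ∈ S) (hα1 : α ≠ 1) :
    ∃ y : G, MulAut.conj y * α * (MulAut.conj y)⁻¹ ∉ S := by
  by_contra hcon
  push Not at hcon
  have h1 : ∀ y : G, MulAut.conj (y * (α y)⁻¹) ∈ S := fun y => (conj_mem_iff hα y).1 (hcon y)
  let N : Subgroup G := Subgroup.closure (Set.range fun y : G => y * (α y)⁻¹)
  have hN : N.Normal := by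
    refine ⟨fun n hn z => ?_⟩
    induction hn using Subgroup.closure_induction with
    | mem x hx =>
      obtain ⟨y, rfl⟩ := hx
      have h2 : z * (y * (α y)⁻¹) * z⁻¹ = ((z * y) * (α (z * y))⁻¹) * (z * (α z)⁻¹)⁻¹ := by
        rw [map_mul]; group
      change z * (y * (α y)⁻¹) * z⁻¹ ∈ N
      rw [h2]
      exact mul_mem (Subgroup.subset_closure ⟨z * y, rfl⟩) (inv_mem (Subgroup.subset_closure ⟨z, rfl⟩))
    | one => simp
    | mul x y _ _ hx hy =>
      have h2 : z * (x * y) * z⁻¹ = (z * x * z⁻¹) * (z * y * z⁻¹) := by group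
      rw [h2]; exact mul_mem hx hy
    | inv x _ hx =>
      have h2 : z * x⁻¹ * z⁻¹ = (z * x * z⁻¹)⁻¹ := by group
      rw [h2]; exact inv_mem hx
  rcases hN.eq_bot_or_eq_top with h | h
  · apply hα1
    ext y
    have h3 : y * (α y)⁻¹ ∈ N := Subgroup.subset_closure ⟨y, rfl⟩
    rw [h, Subgroup.mem_bot] at h3
    exact (mul_inv_eq_one.1 h3).symm
  · have h4 : ∀ x : G, MulAut.conj x ∈ S := by
      intro x
      have hx : x ∈ N := by rw [h]; trivial
      have hle : N ≤ S.comap MulAut.conj := by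
        rw [Subgroup.closure_le]
        rintro _ ⟨y, rfl⟩
        exact h1 y
      exact hle hx
    let f : G →* S :=
      { toFun := fun x => ⟨MulAut.conj x, h4 x⟩
        map_one' := by ext1; exact map_one _
        map_mul' := fun x y => by ext1; exact map_mul _ x y }
    have hf : Function.Injective f := by
      rw [injective_iff_map_eq_one]
      intro x hx
      exact conj_eq_one hZ (congrArg Subtype.val hx)
    exact hns (Group.isSolvable_of_isSolvable_injective hf)

/-- **Reduction to three conjugates of the part in a subgroup `P` of index two.** -/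
theorem four_of_three [IsSimpleGroup G] (hns : ¬ Group.IsSolvable G) (hZ : Subgroup.center G = ⊥)
    (P : Subgroup (MulAut G)) (hP : P.index = 2) {S : Subgroup (MulAut G)} (hS : Group.IsSolvable S)
    (x : Fin 3 → G)
    (hx : ∀ α ∈ S, α ∈ P → (∀ i, MulAut.conj (x i) * α * (MulAut.conj (x i))⁻¹ ∈ S) → α = 1) :
    Five4 S := by
  by_cases hex : ∃ α ∈ S, (∀ i, MulAut.conj (x i) * α * (MulAut.conj (x i))⁻¹ ∈ S) ∧ α ≠ 1
  · obtain ⟨α₀, hα₀, hi₀, h1⟩ := hex
    obtain ⟨y, hy⟩ := exists_conj_notMem hns hZ hS hα₀ h1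
    have hα₀P : α₀ ∉ P := fun h => h1 (hx α₀ hα₀ h hi₀)
    refine ⟨Fin.snoc x y, fun α hα hi => ?_⟩
    have hi' : ∀ i, MulAut.conj (x i) * α * (MulAut.conj (x i))⁻¹ ∈ S := fun i => by
      have := hi (Fin.castSucc i)
      rwa [Fin.snoc_castSucc (α := fun _ => G)] at this
    have hy' : MulAut.conj y * α * (MulAut.conj y)⁻¹ ∈ S := by
      have := hi (Fin.last 3)
      rwa [Fin.snoc_last (α := fun _ => G)] at this
    by_cases hαP : α ∈ P
    · exact hx α hα hαP hi'
    · exfalso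
      have h2 : α * α₀⁻¹ ∈ P := by
        rw [Subgroup.mul_mem_iff_of_index_two hP, inv_mem_iff]
        exact ⟨fun h => absurd h hαP, fun h => absurd h hα₀P⟩
      have h3 : α * α₀⁻¹ = 1 := by
        refine hx _ (mul_mem hα (inv_mem hα₀)) h2 fun i => ?_
        have h4 : MulAut.conj (x i) * (α * α₀⁻¹) * (MulAut.conj (x i))⁻¹ =
            (MulAut.conj (x i) * α * (MulAut.conj (x i))⁻¹) *
              (MulAut.conj (x i) * α₀ * (MulAut.conj (x i))⁻¹)⁻¹ := by group
        rw [h4]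
        exact mul_mem (hi' i) (inv_mem (hi₀ i))
      rw [mul_inv_eq_one] at h3
      rw [h3] at hy'
      exact hy hy'
  · push Not at hex
    refine ⟨Fin.snoc x 1, fun α hα hi => hex α hα fun i => ?_⟩
    have := hi (Fin.castSucc i)
    rwa [Fin.snoc_castSucc (α := fun _ => G)] at this

/-- The case where no involution lies outside `P`. -/
theorem four_of_four (P : Subgroup (MulAut G)) (hP : P.index = 2)
    (hinv : ∀ α : MulAut G, α ∉ P → α * α ≠ 1) {S : Subgroup (MulAut G)}
    (hx : Five4 (S ⊓ P)) : Five4 S := by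
  obtain ⟨x, hx⟩ := hx
  have hPn : P.Normal := Subgroup.normal_of_index_eq_two hP
  have hmem : ∀ (β : MulAut G) (y : G), β ∈ P → MulAut.conj y * β * (MulAut.conj y)⁻¹ ∈ P :=
    fun β y hβ => hPn.conj_mem β hβ _
  have hsq : ∀ α : MulAut G, α * α ∈ P := fun α => by
    rw [← sq]; exact Subgroup.sq_mem_of_index_two hP α
  refine ⟨x, fun α hα hi => ?_⟩
  have h1 : α * α = 1 := by
    refine hx _ ⟨mul_mem hα hα, hsq α⟩ fun i => ⟨?_, hmem _ _ (hsq α)⟩
    have h4 : MulAut.conj (x i) * (α * α) * (MulAut.conj (x i))⁻¹ =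
        (MulAut.conj (x i) * α * (MulAut.conj (x i))⁻¹) *
          (MulAut.conj (x i) * α * (MulAut.conj (x i))⁻¹) := by group
    rw [h4]
    exact mul_mem (hi i) (hi i)
  have h2 : α ∈ P := by
    by_contra h
    exact hinv α h h1
  exact hx α ⟨hα, h2⟩ fun i => ⟨hi i, hmem _ _ h2⟩

/-- An invariant elementary abelian subgroup. -/
theorem exists_elab [Finite G] {S : Subgroup (MulAut G)} (hS : Group.IsSolvable S) (hZ : Subgroup.center G = ⊥)
    (hne : ∃ x : G, MulAut.conj x ∈ S ∧ x ≠ 1) :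
    ∃ (r : ℕ) (A : Subgroup G), r.Prime ∧ A ≠ ⊥ ∧ (∀ a ∈ A, MulAut.conj a ∈ S) ∧
      (∀ a ∈ A, ∀ b ∈ A, a * b = b * a) ∧ (∀ a ∈ A, a ^ r = 1) ∧ ∀ α ∈ S, ∀ a ∈ A, α a ∈ A := by
  classical
  -- a minimal nontrivial invariant subgroup
  let M : Subgroup G := S.comap MulAut.conj
  have hinvM : ∀ α ∈ S, ∀ a ∈ M, α a ∈ M := by
    intro α hα a ha
    change MulAut.conj (α a) ∈ S
    rw [← aut_conj]
    exact mul_mem (mul_mem hα ha) (inv_mem hα)
  let Q : Set (Subgroup G) := {B | B ≠ ⊥ ∧ B ≤ M ∧ ∀ α ∈ S, ∀ a ∈ B, α a ∈ B}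
  have hQ : Q.Nonempty := by
    obtain ⟨x, hx, hx1⟩ := hne
    refine ⟨M, fun h => hx1 ?_, le_refl _, hinvM⟩
    have : x ∈ M := hx
    rwa [h, Subgroup.mem_bot] at this
  obtain ⟨B, hB⟩ := Set.Finite.exists_minimal (Set.toFinite Q) hQ
  obtain ⟨⟨hB1, hBM, hBinv⟩, hBmin⟩ := hB
  -- `B` is abelian
  have hBs : Group.IsSolvable B := by
    have h4 : ∀ x ∈ B, MulAut.conj x ∈ S := fun x hx => hBM hx
    let f : B →* S :=
      { toFun := fun x => ⟨MulAut.conj x.1, h4 x.1 x.2⟩
        map_one' := by ext1; exact map_one _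
        map_mul' := fun x y => by ext1; exact map_mul _ x.1 y.1 }
    have hf : Function.Injective f := by
      rw [injective_iff_map_eq_one]
      intro x hx
      exact Subtype.ext (conj_eq_one hZ (congrArg Subtype.val hx))
    exact Group.isSolvable_of_isSolvable_injective hf
  have hcomm : ⁅B, B⁆ = (⊥ : Subgroup G) := by
    by_contra hne'
    have h1 : ⁅B, B⁆ ≤ B := Subgroup.commutator_le.2 fun x hx y hy => by
      rw [commutatorElement_def]
      exact mul_mem (mul_mem (mul_mem hx hy) (inv_mem hx)) (inv_mem hy)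
    have h2 : ⁅B, B⁆ ∈ Q := by
      refine ⟨hne', h1.trans hBM, fun α hα a ha => ?_⟩
      have h3 : (⁅B, B⁆).map α.toMonoidHom ≤ ⁅B, B⁆ := by
        rw [Subgroup.map_commutator]
        have h4 : B.map α.toMonoidHom ≤ B := by
          rintro _ ⟨b, hb, rfl⟩
          exact hBinv α hα b hb
        exact Subgroup.commutator_mono h4 h4
      exact h3 ⟨a, ha, rfl⟩
    have h3 : B ≤ ⁅B, B⁆ := hBmin h2 h1
    have h5 : ⁅B, B⁆ = B := le_antisymm h1 h3
    -- then `B` is perfect and solvable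
    have h6 : ∀ n, (derivedSeries B n).map B.subtype = B := by
      intro n
      induction n with
      | zero => rw [derivedSeries_zero, ← MonoidHom.range_eq_map, Subgroup.range_subtype]
      | succ n ih => rw [derivedSeries_succ, Subgroup.map_commutator, ih, h5]
    obtain ⟨n, hn⟩ := hBs.solvable
    have h7 := h6 n
    rw [hn, Subgroup.map_bot] at h7
    exact hB1 h7.symm
  have hab : ∀ a ∈ B, ∀ b ∈ B, a * b = b * a := by
    intro a ha b hb
    have h1 : ⁅a, b⁆ ∈ ⁅B, B⁆ := Subgroup.commutator_mem_commutator ha hb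
    rw [hcomm, Subgroup.mem_bot, commutatorElement_eq_one_iff_mul_comm] at h1
    exact h1
  -- a prime dividing `|B|`
  have hcard : Nat.card B ≠ 1 := fun h => hB1 ((Subgroup.card_eq_one).1 h)
  obtain ⟨r, hr, hrd⟩ := Nat.exists_prime_and_dvd hcard
  have : Fact r.Prime := ⟨hr⟩
  obtain ⟨b, hb⟩ := exists_prime_orderOf_dvd_card' r hrd
  let A : Subgroup G :=
    { carrier := {a | a ∈ B ∧ a ^ r = 1}
      mul_mem' := by
        rintro a c ⟨ha, ha'⟩ ⟨hc, hc'⟩
        refine ⟨mul_mem ha hc, ?_⟩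
        rw [(show Commute a c from hab a ha c hc).mul_pow, ha', hc', one_mul]
      one_mem' := ⟨one_mem _, one_pow _⟩
      inv_mem' := by
        rintro a ⟨ha, ha'⟩
        exact ⟨inv_mem ha, by rw [inv_pow, ha', inv_one]⟩ }
  refine ⟨r, A, hr, ?_, fun a ha => hBM ha.1, fun a ha c hc => hab a ha.1 c hc.1, fun a ha => ha.2, ?_⟩
  · intro h
    have h1 : b.1 ∈ A := ⟨b.2, by
      have := pow_orderOf_eq_one b
      rw [hb] at this
      exact congrArg Subtype.val this⟩
    rw [h, Subgroup.mem_bot] at h1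
    have h2 : b = 1 := Subtype.ext h1
    rw [h2, orderOf_one] at hb
    exact hr.one_lt.ne hb
  · rintro α hα a ⟨ha, ha'⟩
    exact ⟨hBinv α hα a ha, by rw [← map_pow, ha', map_one]⟩

end Abstract

end Cfsg.Agent.H319.FC
end

-- part: H319/FC/Sem
section
/-!
# S5764, SP4G: semilinear part

`G = Sp_4(F)`, `F` finite of characteristic two, `|F| ≥ 4`; `P = (conjHom 2 F).range`.
-/

set_option autoImplicit false

namespace Cfsg.Agent.H319.FC

open Cfsg
open Cfsg.Agent.ClassicalGeometry.SympBasic Cfsg.Agent.ClassicalGeometry.SympAutSemi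
open Cfsg.Agent.ClassicalGeometry.Sp4Graph Cfsg.Agent.ClassicalGeometry.Sp4GraphAut
open scoped Matrix

universe u

variable {F : Type u} [Field F]

/-! ### The isomorphism with `PSp_4(F)` -/

section Iso

variable [CharP F 2]

variable (F) in
/-- `Sp_4(F) ≅ PSp_4(F)` in characteristic two. -/
noncomputable def mkE : Sp4 F ≃* PSp 2 F :=
  MulEquiv.ofBijective (QuotientGroup.mk' (Subgroup.center (Sp4 F)))
    ⟨fun _ _ h => mk_injective (by norm_num) h, QuotientGroup.mk'_surjective _⟩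

theorem mkE_apply (A : Sp4 F) : mkE F A = QuotientGroup.mk A := rfl

variable (F) in
/-- the induced isomorphism of automorphism groups -/
noncomputable def congE : MulAut (Sp4 F) ≃* MulAut (PSp 2 F) := MulAut.congr (mkE F)

theorem congE_apply (α : MulAut (Sp4 F)) (x : PSp 2 F) : congE F α x = mkE F (α ((mkE F).symm x)) := rfl

theorem congE_mk (α : MulAut (Sp4 F)) (A : Sp4 F) : congE F α (mkE F A) = mkE F (α A) := by
  rw [congE_apply, MulEquiv.symm_apply_apply]

theorem congE_conj (A : Sp4 F) : congE F (MulAut.conj A) = MulAut.conj (mkE F A) := by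
  ext x
  obtain ⟨B, rfl⟩ := (mkE F).surjective x
  rw [congE_mk, MulAut.conj_apply, MulAut.conj_apply, map_mul, map_mul, map_inv]

theorem congE_conjHom (g : semiSim 2 F) : congE F (conjHom 2 F g) = Psi 2 F g := by
  ext x
  obtain ⟨B, rfl⟩ := (mkE F).surjective x
  rw [congE_mk, mkE_apply, mkE_apply, Psi_mk]

theorem congE_mem_range (α : MulAut (Sp4 F)) : congE F α ∈ (Psi 2 F).range ↔ α ∈ (conjHom 2 F).range := by
  constructor
  · rintro ⟨g, hg⟩
    refine ⟨g, (congE F).injective ?_⟩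
    rw [congE_conjHom, hg]
  · rintro ⟨g, rfl⟩
    exact ⟨g, (congE_conjHom g).symm⟩

theorem range_eq_comap : (conjHom 2 F).range = (Psi 2 F).range.comap (congE F).toMonoidHom := by
  ext α
  rw [Subgroup.mem_comap]
  exact (congE_mem_range α).symm

variable [Finite F]

theorem exists_t (hq : 4 ≤ Nat.card F) : ∃ t : F, t ≠ 0 ∧ t ≠ 1 := by
  by_contra hcon
  push Not at hcon
  have : Fintype F := Fintype.ofFinite F
  rw [Nat.card_eq_fintype_card] at hq
  have h3 : Fintype.card F ≤ 2 := by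
    classical
    have : (Finset.univ : Finset F) ⊆ {0, 1} := by
      intro t _
      by_cases h0 : t = 0
      · simp [h0]
      · simp [hcon t h0]
    exact (Finset.card_le_card this).trans (Finset.card_le_two)
  omega

theorem index_Psi (hq : 4 ≤ Nat.card F) : (Psi 2 F).range.index = 2 := by
  refine Cfsg.Agent.ClassicalGeometry.SympAutTwo.index_two (exists_t hq) ?_
  intro α hα
  obtain ⟨g, hg⟩ := Cfsg.Agent.ClassicalGeometry.SympAutExists.exists_semi (le_refl 2) α hα
  exact ⟨g, hg⟩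

theorem index_P (hq : 4 ≤ Nat.card F) : (conjHom 2 F).range.index = 2 := by
  rw [range_eq_comap, Subgroup.index_comap_of_surjective _ (congE F).surjective, index_Psi hq]

theorem simple_psp (hq : 4 ≤ Nat.card F) : IsSimpleGroup (PSp 2 F) := by
  have : Fintype F := Fintype.ofFinite F
  rw [Nat.card_eq_fintype_card] at hq
  exact Cfsg.Agent.S0270.result 2 le_rfl fun _ => by omega

theorem simple_sp (hq : 4 ≤ Nat.card F) : IsSimpleGroup (Sp4 F) := by
  have := simple_psp hq
  exact (mkE F).isSimpleGroup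

theorem center_sp : Subgroup.center (Sp4 F) = ⊥ := center_eq_bot (by norm_num)

theorem not_solvable_sp (hq : 4 ≤ Nat.card F) : ¬ Group.IsSolvable (Sp4 F) := by
  intro hs
  have := simple_sp hq
  have h1 : ∀ a b : Sp4 F, a * b = b * a := IsSimpleGroup.comm_iff_isSolvable.2 hs
  have h2 : Subgroup.center (Sp4 F) = ⊤ := by
    rw [Subgroup.eq_top_iff']
    intro x
    rw [Subgroup.mem_center_iff]
    exact fun g => h1 g x
  rw [center_sp] at h2
  exact bot_ne_top h2

/-- the graph automorphism is not semilinear -/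
theorem graph_notMem : (graphEquiv F : MulAut (Sp4 F)) ∉ (conjHom 2 F).range := by
  rintro ⟨g, hg⟩
  obtain ⟨φ, l, hl, hs⟩ := g.2
  have h1 : conjHom 2 F g (transv (e1 F) 1) = S 1 := by
    rw [hg]
    exact graphHom_transv 1
  rw [conjHom_transv g hl hs] at h1
  exact S_ne_transv one_ne_zero _ _ h1.symm

/-- an automorphism outside `P` -/
theorem exists_graph (hq : 4 ≤ Nat.card F) {α : MulAut (Sp4 F)} (hα : α ∉ (conjHom 2 F).range) :
    ∃ k : semiSim 2 F, α = conjHom 2 F k * graphEquiv F := by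
  have h1 : α * (graphEquiv F : MulAut (Sp4 F))⁻¹ ∈ (conjHom 2 F).range := by
    rw [Subgroup.mul_mem_iff_of_index_two (index_P hq), inv_mem_iff]
    exact ⟨fun h => absurd h hα, fun h => absurd h graph_notMem⟩
  obtain ⟨k, hk⟩ := h1
  exact ⟨k, by rw [hk, inv_mul_cancel_right]⟩

end Iso

/-! ### Coordinates -/

section Coord

variable (F) in
/-- third basis vector -/
def f1 : V4 F := Pi.single (Sum.inr 0) 1

variable (F) in
/-- fourth basis vector -/
def f2 : V4 F := Pi.single (Sum.inr 1) 1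

theorem decomp4 (x : V4 F) : x = x (.inl 0) • e1 F + x (.inl 1) • e2 F + x (.inr 0) • f1 F + x (.inr 1) • f2 F := by
  ext i
  rcases i with i | i <;> fin_cases i <;> simp [e1, e2, f1, f2]

theorem rho_add (A : Sp4 F) (u v : V4 F) : rho 2 F A (u + v) = rho 2 F A u + rho 2 F A v := (isSemi_rho A).1 u v

theorem rho_smul (A : Sp4 F) (a : F) (v : V4 F) : rho 2 F A (a • v) = a • rho 2 F A v := (isSemi_rho A).2.1 a v

/-- a linear map with given images of the basis -/
def lin4 (a b c d : V4 F) : V4 F →ₗ[F] V4 F where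
  toFun x := x (.inl 0) • a + x (.inl 1) • b + x (.inr 0) • c + x (.inr 1) • d
  map_add' x y := by
    simp only [Pi.add_apply, add_smul]
    abel
  map_smul' r x := by
    simp only [Pi.smul_apply, smul_eq_mul, RingHom.id_apply, smul_add, mul_smul]

/-- a symplectic matrix with given images of the basis -/
theorem exists_sp [CharP F 2] {a b c d : V4 F} (hab : sympForm 2 F a b = 0) (hac : sympForm 2 F a c = 1)
    (had : sympForm 2 F a d = 0) (hbc : sympForm 2 F b c = 0) (hbd : sympForm 2 F b d = 1)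
    (hcd : sympForm 2 F c d = 0) :
    ∃ A : Sp4 F, ∀ x : V4 F, rho 2 F A x = x (.inl 0) • a + x (.inl 1) • b + x (.inr 0) • c + x (.inr 1) • d := by
  have hn : ∀ y : F, -y = y := fun y => CharTwo.neg_eq y
  have hL : ∀ x, LinearMap.toMatrix' (lin4 a b c d) *ᵥ x =
      x (.inl 0) • a + x (.inl 1) • b + x (.inr 0) • c + x (.inr 1) • d := fun x => by
    rw [LinearMap.toMatrix'_mulVec]
    rfl
  have hba : sympForm 2 F b a = 0 := by rw [sympForm_swap, hab, neg_zero]
  have hca : sympForm 2 F c a = 1 := by rw [sympForm_swap, hac, hn]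
  have hda : sympForm 2 F d a = 0 := by rw [sympForm_swap, had, neg_zero]
  have hcb : sympForm 2 F c b = 0 := by rw [sympForm_swap, hbc, neg_zero]
  have hdb : sympForm 2 F d b = 1 := by rw [sympForm_swap, hbd, hn]
  have hdc : sympForm 2 F d c = 0 := by rw [sympForm_swap, hcd, neg_zero]
  refine ⟨⟨LinearMap.toMatrix' (lin4 a b c d), ?_⟩, hL⟩
  rw [mem_symplecticGroup_iff]
  intro u v
  rw [hL, hL, sympForm_eq u v]
  simp only [sympForm_add_left, sympForm_add_right, sympForm_smul_left, sympForm_smul_right, sympForm_self, hab, hac,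
    had, hbc, hbd, hcd, hba, hca, hda, hcb, hdb, hdc]
  ring

theorem form_e1_f1 [CharP F 2] : sympForm 2 F (e1 F) (f1 F) = 1 := by
  rw [sympForm_eq]; simp [e1, f1]

theorem form_e2_f2 [CharP F 2] : sympForm 2 F (e2 F) (f2 F) = 1 := by
  rw [sympForm_eq]; simp [e2, f2]

theorem form_e1_f2 [CharP F 2] : sympForm 2 F (e1 F) (f2 F) = 0 := by
  rw [sympForm_eq]; simp [e1, f2]

theorem form_e2_f1 [CharP F 2] : sympForm 2 F (e2 F) (f1 F) = 0 := by
  rw [sympForm_eq]; simp [e2, f1]

theorem form_e1_e2 [CharP F 2] : sympForm 2 F (e1 F) (e2 F) = 0 := by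
  rw [sympForm_eq]; simp [e1, e2]

theorem form_f1_f2 [CharP F 2] : sympForm 2 F (f1 F) (f2 F) = 0 := by
  rw [sympForm_eq]; simp [f1, f2]

/-- `Sp_4` is transitive on pairs of independent orthogonal vectors. -/
theorem exists_ti [CharP F 2] {v b : V4 F} (hv : v ≠ 0) (hb : ∀ a : F, b ≠ a • v) (hvb : sympForm 2 F v b = 0) :
    ∃ h : Sp4 F, rho 2 F h (e1 F) = v ∧ rho 2 F h (e2 F) = b := by
  have hn : ∀ y : F, -y = y := fun y => CharTwo.neg_eq y
  have hb0 : b ≠ 0 := fun h => hb 0 (by rw [h, zero_smul])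
  have hv' : ∀ a : F, v ≠ a • b := by
    intro a ha
    have ha0 : a ≠ 0 := by
      rintro rfl
      exact hv (by rw [ha, zero_smul])
    exact hb a⁻¹ (by rw [ha, smul_smul, inv_mul_cancel₀ ha0, one_smul])
  obtain ⟨x, hx1, hx2⟩ := Cfsg.Agent.LieClassical.SympSimple.exists_perp_of_not_smul hb0 hv'
  obtain ⟨y, hy1, hy2⟩ := Cfsg.Agent.LieClassical.SympSimple.exists_perp_of_not_smul hv hb
  -- `c = x / f(v, x)`, `d₀ = y / f(b, y)`, `d = d₀ + f(c, d₀) v`
  obtain ⟨c, hc⟩ : ∃ c, c = (sympForm 2 F v x)⁻¹ • x := ⟨_, rfl⟩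
  obtain ⟨d₀, hd₀⟩ : ∃ d₀, d₀ = (sympForm 2 F b y)⁻¹ • y := ⟨_, rfl⟩
  obtain ⟨d, hd⟩ : ∃ d, d = d₀ + sympForm 2 F c d₀ • v := ⟨_, rfl⟩
  have hac : sympForm 2 F v c = 1 := by rw [hc, sympForm_smul_right, inv_mul_cancel₀ hx2]
  have hbc : sympForm 2 F b c = 0 := by rw [hc, sympForm_smul_right, hx1, mul_zero]
  have had₀ : sympForm 2 F v d₀ = 0 := by rw [hd₀, sympForm_smul_right, hy1, mul_zero]
  have hbd₀ : sympForm 2 F b d₀ = 1 := by rw [hd₀, sympForm_smul_right, inv_mul_cancel₀ hy2]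
  have hbv : sympForm 2 F b v = 0 := by rw [sympForm_swap, hvb, neg_zero]
  have hcv : sympForm 2 F c v = 1 := by rw [sympForm_swap, hac, hn]
  have had : sympForm 2 F v d = 0 := by
    rw [hd, sympForm_add_right, sympForm_smul_right, sympForm_self, had₀, mul_zero, add_zero]
  have hbd : sympForm 2 F b d = 1 := by
    rw [hd, sympForm_add_right, sympForm_smul_right, hbv, hbd₀, mul_zero, add_zero]
  have hcd : sympForm 2 F c d = 0 := by
    rw [hd, sympForm_add_right, sympForm_smul_right, hcv, mul_one]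
    exact CharTwo.add_self_eq_zero _
  obtain ⟨A, hA⟩ := exists_sp hvb hac had hbc hbd hcd
  refine ⟨A, ?_, ?_⟩
  · rw [hA]; simp [e1]
  · rw [hA]; simp [e2]

end Coord

/-! ### Linear case, traces -/

section Lin

/-- a linear similitude with square multiplier is a multiple of a symplectic matrix -/
theorem exists_of_linear {h : Equiv.Perm (V4 F)} {φ : F ≃+* F} {μ : F} (hμ : μ ≠ 0)
    (hh : IsSemi h φ (μ * μ)) (hφ : ∀ a, φ a = a) :
    ∃ A : Sp4 F, ∀ v, h v = μ • rho 2 F A v := by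
  let h' : Equiv.Perm (V4 F) := (MulAction.toPerm (Units.mk0 μ hμ)⁻¹) * h
  have hap : ∀ v, h' v = μ⁻¹ • h v := fun v => rfl
  obtain ⟨A, hA⟩ := exists_rho_eq h' (fun u v => by rw [hap, hap, hap, hh.1, smul_add])
    (fun a v => by
      rw [hap, hap, hh.2.1, smul_comm, hφ])
    (fun u v => by
      have h1 := hh.2.2 u v
      have h2 : sympForm 2 F (μ⁻¹ • h u) (μ⁻¹ • h v) = μ⁻¹ * (μ⁻¹ * sympForm 2 F (h u) (h v)) := by
        rw [sympForm_smul_left, sympForm_smul_right]
      rw [hap, hap, h2, h1, hφ]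
      field_simp)
  refine ⟨A, fun v => ?_⟩
  rw [hA, hap, smul_smul, mul_inv_cancel₀ hμ, one_smul]

/-- the automorphism induced by a multiple of a symplectic matrix is inner -/
theorem conjHom_eq_conj {s : semiSim 2 F} {μ : F} {A : Sp4 F}
    (h : ∀ v, s.1 v = μ • rho 2 F A v) : conjHom 2 F s = MulAut.conj A := by
  ext1 X
  apply rho_injective
  rw [rho_conjHom, MulAut.conj_apply, map_mul, map_mul]
  have h2 : s.1 * rho 2 F X = rho 2 F A * rho 2 F X * (rho 2 F A)⁻¹ * s.1 := by
    ext1 v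
    simp only [Equiv.Perm.mul_apply]
    rw [h, h]
    have h3 : ∀ (B : Sp4 F) (w), rho 2 F B (μ • w) = μ • rho 2 F B w := fun B w =>
      (isSemi_rho B).2.1 μ w
    rw [← map_inv, h3, h3, h3, map_inv, perm_inv_apply_self]
  rw [h2, mul_assoc, mul_inv_cancel, mul_one, map_inv]

theorem exists_conj_of_linear [CharP F 2] [Finite F] {g : semiSim 2 F} {φ : F ≃+* F} {l : F} (hl : l ≠ 0)
    (hg : IsSemi g.1 φ l) (hφ : ∀ a, φ a = a) :
    ∃ A : Sp4 F, conjHom 2 F g = MulAut.conj A ∧ ∃ μ : F, μ ≠ 0 ∧ ∀ v, g.1 v = μ • rho 2 F A v := by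
  have : Fintype F := Fintype.ofFinite F
  obtain ⟨μ, hμl⟩ := FiniteField.isSquare_of_char_two (ringChar.eq F 2) l
  have hμ : μ ≠ 0 := by
    rintro rfl
    exact hl (by rw [hμl, mul_zero])
  rw [hμl] at hg
  obtain ⟨A, hA⟩ := exists_of_linear hμ hg hφ
  exact ⟨A, conjHom_eq_conj hA, μ, hμ, hA⟩

/-- traces of conjugates under semilinear maps -/
theorem trace_conjHom {g : semiSim 2 F} {φ : F ≃+* F} {l : F} (hg : IsSemi g.1 φ l) (B : Sp4 F) :
    Matrix.trace (conjHom 2 F g B : Matrix I4 I4 F) = φ (Matrix.trace (B : Matrix I4 I4 F)) := by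
  classical
  let P : Matrix I4 I4 F := Matrix.of fun i j => g.1 (Pi.single j 1) i
  have hP : ∀ v : I4 → F, g.1 v = P *ᵥ (fun i => φ (v i)) := by
    intro v
    have h1 : v = v (.inl 0) • (Pi.single (.inl 0) 1 : I4 → F) + v (.inl 1) • (Pi.single (.inl 1) 1 : I4 → F) +
        v (.inr 0) • (Pi.single (.inr 0) 1 : I4 → F) + v (.inr 1) • (Pi.single (.inr 1) 1 : I4 → F) := by
      ext i
      rcases i with i | i <;> fin_cases i <;> simp
    conv_lhs => rw [h1]
    rw [hg.1, hg.1, hg.1, hg.2.1, hg.2.1, hg.2.1, hg.2.1]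
    ext i
    simp only [P, Matrix.mulVec, dotProduct, Fintype.sum_sum_type, Fin.sum_univ_two, Matrix.of_apply, Pi.add_apply,
      Pi.smul_apply, smul_eq_mul]
    ring
  have hPu : IsUnit P := by
    rw [← Matrix.mulVec_surjective_iff_isUnit]
    intro w
    obtain ⟨v, rfl⟩ := g.1.surjective w
    exact ⟨_, (hP v).symm⟩
  have hdet : IsUnit P.det := (Matrix.isUnit_iff_isUnit_det P).1 hPu
  have h2 : (conjHom 2 F g B : Matrix I4 I4 F) * P = P * (B : Matrix I4 I4 F).map φ := by
    rw [← Matrix.mulVec_injective.eq_iff]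
    funext w
    rw [← Matrix.mulVec_mulVec, ← Matrix.mulVec_mulVec]
    have h3 : w = fun i => φ ((fun i => φ.symm (w i)) i) := by
      ext i; simp
    have h4 : ∀ v : I4 → F, (B : Matrix I4 I4 F).map φ *ᵥ (fun i => φ (v i)) =
        fun i => φ (((B : Matrix I4 I4 F) *ᵥ v) i) := by
      intro v
      ext i
      simp only [Matrix.mulVec, dotProduct, Matrix.map_apply, map_sum, map_mul]
    rw [h3, ← hP, h4, ← hP]
    have h5 : rho 2 F (conjHom 2 F g B) (g.1 (fun i => φ.symm (w i))) =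
        g.1 (rho 2 F B (fun i => φ.symm (w i))) := by
      rw [rho_conjHom, Equiv.Perm.mul_apply, Equiv.Perm.mul_apply, perm_inv_apply_self]
    exact h5
  have h3 : (conjHom 2 F g B : Matrix I4 I4 F) = P * (B : Matrix I4 I4 F).map φ * P⁻¹ := by
    rw [← h2, Matrix.mul_assoc, Matrix.mul_nonsing_inv _ hdet, Matrix.mul_one]
  rw [h3, Matrix.trace_mul_comm, ← Matrix.mul_assoc, Matrix.nonsing_inv_mul _ hdet, Matrix.one_mul]
  simp only [Matrix.trace, Matrix.diag, Matrix.map_apply, map_sum]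

/-- three conjugates by inner automorphisms kill the semilinear part of `S` -/
def Kill3 (S : Subgroup (MulAut (Sp4 F))) : Prop :=
  ∃ x : Fin 3 → Sp4 F, ∀ α ∈ S, α ∈ (conjHom 2 F).range →
    (∀ i, MulAut.conj (x i) * α * (MulAut.conj (x i))⁻¹ ∈ S) → α = 1

theorem Kill3.mono {S S' : Subgroup (MulAut (Sp4 F))} (h : S ≤ S') (hK : Kill3 S') : Kill3 S := by
  obtain ⟨x, hx⟩ := hK
  exact ⟨x, fun α hα hP hi => hx α (h hα) hP fun i => h (hi i)⟩

theorem conj_mem_P (A : Sp4 F) : MulAut.conj A ∈ (conjHom 2 F).range := by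
  refine ⟨⟨rho 2 F A, RingEquiv.refl F, 1, one_ne_zero, isSemi_rho A⟩, ?_⟩
  exact conjHom_eq_conj (μ := 1) fun v => by rw [one_smul]

/-- `Kill3` is invariant under inner automorphisms. -/
theorem Kill3.conj {S : Subgroup (MulAut (Sp4 F))} (h : Sp4 F)
    (hK : Kill3 (S.map (MulAut.conj (MulAut.conj h)).toMonoidHom)) : Kill3 S := by
  obtain ⟨x, hx⟩ := hK
  have hmem : ∀ β : MulAut (Sp4 F), β ∈ S ↔
      MulAut.conj h * β * (MulAut.conj h)⁻¹ ∈ S.map (MulAut.conj (MulAut.conj h)).toMonoidHom := by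
    intro β
    constructor
    · intro hβ
      exact ⟨β, hβ, rfl⟩
    · rintro ⟨γ, hγ, hγ'⟩
      have h1 : MulAut.conj h * γ * (MulAut.conj h)⁻¹ = MulAut.conj h * β * (MulAut.conj h)⁻¹ := hγ'
      have h2 : γ = β := by
        rw [mul_left_inj, mul_right_inj] at h1
        exact h1
      rwa [← h2]
  refine ⟨fun i => h⁻¹ * x i * h, fun α hα hP hi => ?_⟩
  have h1 := hx (MulAut.conj h * α * (MulAut.conj h)⁻¹) ((hmem α).1 hα)
    (mul_mem (mul_mem (conj_mem_P h) hP) (inv_mem (conj_mem_P h))) fun i => by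
      have h2 := (hmem _).1 (hi i)
      have h3 : MulAut.conj h * (MulAut.conj (h⁻¹ * x i * h) * α * (MulAut.conj (h⁻¹ * x i * h))⁻¹) * (MulAut.conj h)⁻¹ =
          MulAut.conj (x i) * (MulAut.conj h * α * (MulAut.conj h)⁻¹) * (MulAut.conj (x i))⁻¹ := by
        simp only [map_mul, map_inv]
        group
      rwa [h3] at h2
  have h4 : MulAut.conj h * α = MulAut.conj h := by
    rw [mul_inv_eq_one] at h1
    exact h1
  exact mul_eq_left.1 h4

end Lin

end Cfsg.Agent.H319.FC
end
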